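import Groth.Agent.H9Misc.DRingInjAmp
import Groth.Agent.LC.InjNoeth

/-!
# Injective dimension of `E[x]`
-/

universe u

open CategoryTheory CategoryTheory.Limits TensorProduct Polynomial

attribute [local instance] HasDerivedCategory.standard

namespace Groth.Agent.GrLib8.InjPoly

section Coind

variable (A B : Type u) [CommRing A] [CommRing B] [Algebra A B] (Y : Type u) [AddCommGroup Y] [Module A Y]

/-- The coinduced module. -/
def Coind : Type u := B →ₗ[A] Y

instance : AddCommGroup (Coind A B Y) := inferInstanceAs (AddCommGroup (B →ₗ[A] Y))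

variable {A B Y}

/-- An element of the coinduced module as a linear map. -/
def Coind.toLin (φ : Coind A B Y) : B →ₗ[A] Y := φ

/-- A linear map as an element of the coinduced module. -/
def Coind.ofLin (φ : B →ₗ[A] Y) : Coind A B Y := φ

@[ext]
theorem Coind.ext {φ ψ : Coind A B Y} (h : ∀ t, φ.toLin t = ψ.toLin t) : φ = ψ :=
  LinearMap.ext h

instance : SMul B (Coind A B Y) := ⟨fun s φ => Coind.ofLin (φ.toLin ∘ₗ LinearMap.mulRight A s)⟩

theorem Coind.smul_apply (s : B) (φ : Coind A B Y) (t : B) : (s • φ).toLin t = φ.toLin (t * s) := rfl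

theorem Coind.add_apply (φ ψ : Coind A B Y) (t : B) : (φ + ψ).toLin t = φ.toLin t + ψ.toLin t := rfl

theorem Coind.zero_apply (t : B) : (0 : Coind A B Y).toLin t = 0 := rfl

instance : Module B (Coind A B Y) where
  one_smul φ := by ext t; rw [Coind.smul_apply, mul_one]
  mul_smul r s φ := by ext t; simp only [Coind.smul_apply, mul_assoc]
  smul_zero s := by ext t; rw [Coind.smul_apply, Coind.zero_apply, Coind.zero_apply]
  smul_add s φ ψ := by ext t; simp only [Coind.smul_apply, Coind.add_apply]
  add_smul r s φ := by ext t; simp only [Coind.smul_apply, Coind.add_apply, mul_add, map_add]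
  zero_smul φ := by ext t; rw [Coind.smul_apply, mul_zero, map_zero, Coind.zero_apply]

instance injective_coind [Module.Injective A Y] : Module.Injective B (Coind A B Y) := by
  refine Module.Baer.injective fun J g => ?_
  let ev : ↥J →ₗ[A] Y :=
    { toFun := fun j => (g j).toLin 1
      map_add' := fun j k => by rw [map_add, Coind.add_apply]
      map_smul' := fun a j => by
        rw [← algebraMap_smul B a j, map_smul, Coind.smul_apply, one_mul, RingHom.id_apply,
          Algebra.algebraMap_eq_smul_one, map_smul] }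
  obtain ⟨H, hH⟩ := Module.Injective.out (J.subtype.restrictScalars A) J.subtype_injective ev
  refine ⟨LinearMap.toSpanSingleton B _ (Coind.ofLin H), fun x hx => ?_⟩
  ext t
  rw [LinearMap.toSpanSingleton_apply, Coind.smul_apply]
  show H (t * x) = _
  have h := hH (t • ⟨x, hx⟩)
  change H (t * x) = (g (t • ⟨x, hx⟩)).toLin 1 at h
  rw [h, map_smul, Coind.smul_apply, one_mul]

end Coind

section Poly

variable {A : Type u} [CommRing A] (Y : Type u) [AddCommGroup Y] [Module A Y] [Module A[X] Y]
  [IsScalarTower A A[X] Y]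

/-- `Y → Hom(A[x], Y)`. -/
noncomputable def unit : Y →ₗ[A[X]] Coind A A[X] Y where
  toFun y := Coind.ofLin ((LinearMap.toSpanSingleton A[X] Y y).restrictScalars A)
  map_add' y z := by ext t; exact smul_add t y z
  map_smul' s y := by
    ext t
    show t • s • y = (t * s) • y
    rw [mul_smul]

/-- The difference map. -/
noncomputable def diff : Coind A A[X] Y →ₗ[A[X]] Coind A A[X] Y where
  toFun φ := Coind.ofLin (((LinearMap.lsmul A[X] Y X).restrictScalars A) ∘ₗ φ.toLin -
    φ.toLin ∘ₗ LinearMap.mulLeft A (X : A[X]))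
  map_add' φ ψ := by
    ext t
    show (X : A[X]) • (φ.toLin t + ψ.toLin t) - (φ.toLin (X * t) + ψ.toLin (X * t)) =
      ((X : A[X]) • φ.toLin t - φ.toLin (X * t)) + ((X : A[X]) • ψ.toLin t - ψ.toLin (X * t))
    rw [smul_add]
    abel
  map_smul' s φ := by
    ext t
    show (X : A[X]) • φ.toLin (t * s) - φ.toLin (X * t * s) = (X : A[X]) • φ.toLin (t * s) - φ.toLin (X * (t * s))
    rw [mul_assoc]

theorem diff_apply (φ : Coind A A[X] Y) (t : A[X]) :
    (diff Y φ).toLin t = (X : A[X]) • φ.toLin t - φ.toLin (X * t) := rfl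

theorem unit_injective : Function.Injective (unit (A := A) Y) := fun y z h => by
  have := congrArg (fun φ : Coind A A[X] Y => φ.toLin 1) h
  change (1 : A[X]) • y = (1 : A[X]) • z at this
  simpa using this

theorem exact_unit_diff : Function.Exact (unit (A := A) Y) (diff Y) := by
  intro φ
  constructor
  · intro h
    refine ⟨φ.toLin 1, Coind.ext fun t => ?_⟩
    show t • φ.toLin 1 = φ.toLin t
    induction t using Polynomial.induction_on' with
    | add p q hp hq => rw [add_smul, hp, hq, map_add]
    | monomial n a =>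
      rw [← smul_X_eq_monomial, smul_assoc, map_smul]
      congr 1
      induction n with
      | zero => rw [pow_zero, one_smul]
      | succ n ih =>
        have h1 := congrArg (fun ψ : Coind A A[X] Y => ψ.toLin (X ^ n)) h
        change (X : A[X]) • φ.toLin (X ^ n) - φ.toLin (X * X ^ n) = 0 at h1
        rw [pow_succ', mul_smul, ih, ← sub_eq_zero, h1]
  · rintro ⟨y, rfl⟩
    refine Coind.ext fun t => ?_
    show (X : A[X]) • t • y - (X * t) • y = 0
    rw [mul_smul, sub_self]

theorem diff_surjective : Function.Surjective (diff (A := A) Y) := by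
  intro ψ
  let v : ℕ → Y := fun n => Nat.rec 0 (fun n y => (X : A[X]) • y - ψ.toLin (X ^ n)) n
  let b := Polynomial.basisMonomials A
  have hb : ∀ k : ℕ, b.constr A v (X ^ k) = v k := fun k => by
    rw [← Polynomial.monomial_one_right_eq_X_pow]
    have := b.constr_basis A v k
    rwa [show b k = monomial k (1 : A) from congrFun (Polynomial.coe_basisMonomials A) k] at this
  refine ⟨Coind.ofLin (b.constr A v), Coind.ext fun t => ?_⟩
  rw [diff_apply]
  induction t using Polynomial.induction_on' with
  | add p q hp hq => rw [map_add, map_add, ← hp, ← hq, mul_add, map_add, smul_add]; abel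
  | monomial n a =>
    show (X : A[X]) • b.constr A v (monomial n a) - b.constr A v (X * monomial n a) = ψ.toLin (monomial n a)
    rw [← smul_X_eq_monomial, map_smul, map_smul, mul_smul_comm, map_smul, ← pow_succ', hb, hb, smul_comm,
      ← smul_sub]
    congr 1
    show (X : A[X]) • v n - ((X : A[X]) • v n - ψ.toLin (X ^ n)) = _
    rw [sub_sub_cancel]

theorem hasInjAmplitudeIn [Module.Injective A Y] : DRing.HasInjAmplitudeIn A[X] 0 1 (Dual.inD A[X] Y) := by
  refine Groth.Agent.H9Misc.DRingInjAmp.hasInjAmplitudeIn_of_quotient _ fun J i hi => ?_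
  let Q : ModuleCat.{u} A[X] := ModuleCat.of A[X] (A[X] ⧸ J)
  let Yc : ModuleCat.{u} A[X] := ModuleCat.of A[X] Y
  rcases hi with hi | hi
  · refine ⟨fun f g => ?_⟩
    haveI : ((DerivedCategory.singleFunctor (ModuleCat.{u} A[X]) 0).obj Yc)⟦i⟧.IsGE (-i) :=
      DerivedCategory.TStructure.t.isGE_shift _ 0 i (-i) (by omega)
    exact (DerivedCategory.TStructure.t.zero f 0 (-i) (by omega)).trans
      (DerivedCategory.TStructure.t.zero g 0 (-i) (by omega)).symm
  · obtain ⟨n, rfl⟩ : ∃ n : ℕ, i = ((n + 2 : ℕ) : ℤ) := ⟨(i - 2).toNat, by omega⟩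
    let S : ShortComplex (ModuleCat.{u} A[X]) := ShortComplex.mk (ModuleCat.ofHom (unit (A := A) Y))
      (ModuleCat.ofHom (diff (A := A) Y)) (ModuleCat.hom_ext (exact_unit_diff Y).linearMap_comp_eq_zero)
    have hS : S.ShortExact := ShortComplex.ShortExact.mk'
      ((ShortComplex.ShortExact.moduleCat_exact_iff_function_exact _).2 (exact_unit_diff Y))
      ((ModuleCat.mono_iff_injective _).2 (unit_injective Y))
      ((ModuleCat.epi_iff_surjective _).2 (diff_surjective Y))
    haveI : Injective S.X₂ := (Module.injective_iff_injective_object A[X] _).1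
      (inferInstanceAs (Module.Injective A[X] (Coind A A[X] Y)))
    haveI : Injective S.X₃ := (Module.injective_iff_injective_object A[X] _).1
      (inferInstanceAs (Module.Injective A[X] (Coind A A[X] Y)))
    have hz : ∀ x : Abelian.Ext Q S.X₁ (n + 2), x = 0 := fun x => by
      obtain ⟨y, hy⟩ := Abelian.Ext.covariant_sequence_exact₁ (S := S) _ hS x
        (Abelian.Ext.eq_zero_of_injective (x.comp (Abelian.Ext.mk₀ S.f) (add_zero _)))
        (show n + 1 + 1 = n + 2 from rfl)
      rw [← hy, Abelian.Ext.eq_zero_of_injective y, Abelian.Ext.zero_comp]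
    exact Abelian.Ext.homEquiv.symm.subsingleton_congr.2 ⟨fun x y => (hz x).trans (hz y).symm⟩

end Poly

/-- `A[x] ⊗ E` has injective amplitude in `[0, 1]`. -/
theorem hasInjAmplitudeIn_tensor (A : Type u) [CommRing A] [IsNoetherianRing A] (E : Type u) [AddCommGroup E]
    [Module A E] [hE : Module.Injective A E] :
    DRing.HasInjAmplitudeIn A[X] 0 1 (Dual.inD A[X] (A[X] ⊗[A] E)) := by
  classical
  haveI : Module.Injective A (DirectSum (ULift.{u} ℕ) fun _ => E) := LC.injective_directSum _ fun _ => hE
  let b : Module.Basis (ULift.{u} ℕ) A A[X] := (Polynomial.basisMonomials A).reindex Equiv.ulift.symm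
  haveI : Module.Injective A (A[X] ⊗[A] E) :=
    LC.injective_of_linearEquiv ((TensorProduct.equivFinsuppOfBasisLeft b).trans
      (finsuppLEquivDirectSum A E (ULift.{u} ℕ))).symm
  exact hasInjAmplitudeIn (A := A) (A[X] ⊗[A] E)

end Groth.Agent.GrLib8.InjPoly
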